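import Cfsg.Agent.E6Deg.Step
import Cfsg.Prelude.Def_ChevE6

/-! The chain of abelian radicals of type E6. -/

set_option autoImplicit false

namespace CfsgLib.E6Deg

/-- Step 0. -/
def step0 : Step where
  S := [56, 57, 58, 59, 60, 61, 62, 63, 64, 65, 66, 67, 68, 69, 70, 71]
  lev := [16, 17, 18, 19, 20, 21, 22, 23, 24, 25, 26, 27, 28, 29, 30, 31, 32, 33, 34, 35, 36, 37, 38, 39, 40, 41, 42, 43, 44, 45, 46, 47, 48, 49, 50, 51, 52, 53, 54, 55]
  nodes := [1, 2, 3, 4, 5]
  prev := [0, 1, 2, 3, 4, 5, 6, 7, 8, 9, 10, 11, 12, 13, 14, 15, 16, 17, 18, 19, 20, 21, 22, 23, 24, 25, 26, 27, 28, 29, 30, 31, 32, 33, 34, 35, 36, 37, 38, 39, 40, 41, 42, 43, 44, 45, 46, 47, 48, 49, 50, 51, 52, 53, 54, 55, 56, 57, 58, 59, 60, 61, 62, 63, 64, 65, 66, 67, 68, 69, 70, 71]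
  words := [[1, 3, 4, 5, 2, 3, 4, 1, 3, 2], [1, 3, 4, 5, 2, 3, 4, 1, 3], [1, 3, 4, 5, 2, 3, 4, 1], [1, 3, 4, 5, 2, 3, 1], [1, 3, 4, 2, 3, 1], [1, 3, 4, 5, 2, 3, 4], [1, 3, 4, 5, 2, 3], [1, 3, 4, 2, 3], [1, 3, 4, 5, 2], [1, 3, 4, 2], [1, 3, 2], [1, 3, 4, 5], [1, 3, 4], [1, 3], [1], []]
  gam := 1
  beta := 55
  pnodes := [0, 1, 2, 3, 4, 5]
  bword := [0, 2, 3, 1]
  wit := [(true, 37, 54), (true, 37, 54), (true, 37, 54), (true, 38, 53), (true, 37, 54), (true, 37, 54), (true, 38, 53), (true, 37, 54), (true, 37, 54), (true, 38, 53), (false, 0, 0), (true, 37, 54), (true, 38, 53), (false, 0, 0), (false, 0, 0), (false, 0, 0)]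

/-- The highest coordinate of step 0. -/
def top0 : step0.Co := ⟨15, by decide⟩

/-- Step 1. -/
def step1 : Step where
  S := [46, 47, 48, 49, 50, 51, 52, 53, 54, 55]
  lev := [26, 27, 28, 29, 30, 31, 32, 33, 34, 35, 36, 37, 38, 39, 40, 41, 42, 43, 44, 45]
  nodes := [2, 3, 4, 5]
  prev := [16, 17, 18, 19, 20, 21, 22, 23, 24, 25, 26, 27, 28, 29, 30, 31, 32, 33, 34, 35, 36, 37, 38, 39, 40, 41, 42, 43, 44, 45, 46, 47, 48, 49, 50, 51, 52, 53, 54, 55]
  words := [[4, 5, 3, 4, 2, 3], [4, 5, 3, 4, 2], [4, 5, 3, 2], [4, 3, 2], [4, 5, 3, 4], [4, 5, 3], [4, 3], [4, 5], [4], []]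
  gam := 0
  beta := 45
  pnodes := [1, 2, 3, 4, 5]
  bword := [1, 3, 4]
  wit := [(true, 36, 44), (true, 36, 44), (true, 36, 44), (false, 1, 0), (true, 36, 44), (true, 38, 43), (false, 0, 0), (true, 41, 42), (false, 0, 0), (false, 0, 0)]

/-- The highest coordinate of step 1. -/
def top1 : step1.Co := ⟨9, by decide⟩

/-- Step 2. -/
def step2 : Step where
  S := [42, 43, 44, 45]
  lev := [30, 31, 32, 33, 34, 35, 36, 37, 38, 39, 40, 41]
  nodes := [3, 4, 5]
  prev := [26, 27, 28, 29, 30, 31, 32, 33, 34, 35, 36, 37, 38, 39, 40, 41, 42, 43, 44, 45]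
  words := [[5, 4, 3], [5, 4], [5], []]
  gam := 1
  beta := 41
  pnodes := [2, 3, 4, 5]
  bword := [2]
  wit := [(true, 36, 40), (true, 36, 40), (true, 38, 39), (false, 0, 0)]

/-- The highest coordinate of step 2. -/
def top2 : step2.Co := ⟨3, by decide⟩

/-- Step 3. -/
def step3 : Step where
  S := [39, 40, 41]
  lev := [33, 34, 35, 36, 37, 38]
  nodes := [4, 5]
  prev := [30, 31, 32, 33, 34, 35, 36, 37, 38, 39, 40, 41]
  words := [[5, 4], [5], []]
  gam := 1
  beta := 38
  pnodes := [3, 4, 5]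
  bword := [3]
  wit := [(true, 36, 37), (false, 2, 0), (false, 0, 0)]

/-- The highest coordinate of step 3. -/
def top3 : step3.Co := ⟨2, by decide⟩

/-- Step 4. -/
def step4 : Step where
  S := [37, 38]
  lev := [35, 36]
  nodes := [5]
  prev := [33, 34, 35, 36, 37, 38]
  words := [[5], []]
  gam := 2
  beta := 36
  pnodes := [4, 5]
  bword := [4]
  wit := [(false, 4, 0), (false, 0, 0)]

/-- The highest coordinate of step 4. -/
def top4 : step4.Co := ⟨1, by decide⟩

/-- Step 5. -/
def step5 : Step where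
  S := [36]
  lev := []
  nodes := []
  prev := [35, 36]
  words := [[]]
  gam := 3
  beta := 0
  pnodes := [5]
  bword := []
  wit := []

/-- The highest coordinate of step 5. -/
def top5 : step5.Co := ⟨0, by decide⟩

theorem ok0 : Ok Cfsg.Lie.chevE6 step0 top0 :=
  ⟨by decide +kernel, by decide +kernel, by decide +kernel, by decide +kernel, by decide +kernel,
    by decide +kernel, by decide +kernel, by decide +kernel⟩

theorem ok1 : Ok Cfsg.Lie.chevE6 step1 top1 :=
  ⟨by decide +kernel, by decide +kernel, by decide +kernel, by decide +kernel, by decide +kernel,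
    by decide +kernel, by decide +kernel, by decide +kernel⟩

theorem ok2 : Ok Cfsg.Lie.chevE6 step2 top2 :=
  ⟨by decide +kernel, by decide +kernel, by decide +kernel, by decide +kernel, by decide +kernel,
    by decide +kernel, by decide +kernel, by decide +kernel⟩

theorem ok3 : Ok Cfsg.Lie.chevE6 step3 top3 :=
  ⟨by decide +kernel, by decide +kernel, by decide +kernel, by decide +kernel, by decide +kernel,
    by decide +kernel, by decide +kernel, by decide +kernel⟩

theorem ok4 : Ok Cfsg.Lie.chevE6 step4 top4 :=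
  ⟨by decide +kernel, by decide +kernel, by decide +kernel, by decide +kernel, by decide +kernel,
    by decide +kernel, by decide +kernel, by decide +kernel⟩

theorem ok5 : Ok Cfsg.Lie.chevE6 step5 top5 :=
  ⟨by decide +kernel, by decide +kernel, by decide +kernel, by decide +kernel, by decide +kernel,
    by decide +kernel, by decide +kernel, by decide +kernel⟩

theorem beta0 : chkBeta Cfsg.Lie.chevE6 step0 top0 = true := by decide +kernel

theorem wit0 : chkWit Cfsg.Lie.chevE6 step0 true = true := by decide +kernel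

theorem beta1 : chkBeta Cfsg.Lie.chevE6 step1 top1 = true := by decide +kernel

theorem wit1 : chkWit Cfsg.Lie.chevE6 step1 false = true := by decide +kernel

theorem beta2 : chkBeta Cfsg.Lie.chevE6 step2 top2 = true := by decide +kernel

theorem wit2 : chkWit Cfsg.Lie.chevE6 step2 false = true := by decide +kernel

theorem beta3 : chkBeta Cfsg.Lie.chevE6 step3 top3 = true := by decide +kernel

theorem wit3 : chkWit Cfsg.Lie.chevE6 step3 false = true := by decide +kernel

theorem beta4 : chkBeta Cfsg.Lie.chevE6 step4 top4 = true := by decide +kernel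

theorem wit4 : chkWit Cfsg.Lie.chevE6 step4 false = true := by decide +kernel

theorem n1_0 : step0.n1 Cfsg.Lie.chevE6 top0 = 10 := by decide +kernel

theorem n1_1 : step1.n1 Cfsg.Lie.chevE6 top1 = 6 := by decide +kernel

theorem n1_2 : step2.n1 Cfsg.Lie.chevE6 top2 = 3 := by decide +kernel

theorem n1_3 : step3.n1 Cfsg.Lie.chevE6 top3 = 2 := by decide +kernel

theorem n1_4 : step4.n1 Cfsg.Lie.chevE6 top4 = 1 := by decide +kernel

theorem n1_5 : step5.n1 Cfsg.Lie.chevE6 top5 = 0 := by decide +kernel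

theorem lows0 : (List.finRange _).map (fun s => (step0.low Cfsg.Lie.chevE6 s).length) =
    [0, 1, 2, 3, 4, 3, 4, 5, 5, 6, 7, 6, 7, 8, 9, 10] := by decide +kernel

theorem moved0 : (step0.movedList Cfsg.Lie.chevE6).map (fun s => (step0.low Cfsg.Lie.chevE6 s).length) =
    [7, 8, 9, 10] := by decide +kernel

theorem lows1 : (List.finRange _).map (fun s => (step1.low Cfsg.Lie.chevE6 s).length) =
    [0, 1, 2, 3, 2, 3, 4, 4, 5, 6] := by decide +kernel

theorem moved1 : (step1.movedList Cfsg.Lie.chevE6).map (fun s => (step1.low Cfsg.Lie.chevE6 s).length) =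
    [4, 5, 6] := by decide +kernel

theorem lows2 : (List.finRange _).map (fun s => (step2.low Cfsg.Lie.chevE6 s).length) =
    [0, 1, 2, 3] := by decide +kernel

theorem moved2 : (step2.movedList Cfsg.Lie.chevE6).map (fun s => (step2.low Cfsg.Lie.chevE6 s).length) =
    [3] := by decide +kernel

theorem lows3 : (List.finRange _).map (fun s => (step3.low Cfsg.Lie.chevE6 s).length) =
    [0, 1, 2] := by decide +kernel

theorem moved3 : (step3.movedList Cfsg.Lie.chevE6).map (fun s => (step3.low Cfsg.Lie.chevE6 s).length) =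
    [2] := by decide +kernel

theorem lows4 : (List.finRange _).map (fun s => (step4.low Cfsg.Lie.chevE6 s).length) =
    [0, 1] := by decide +kernel

theorem moved4 : (step4.movedList Cfsg.Lie.chevE6).map (fun s => (step4.low Cfsg.Lie.chevE6 s).length) =
    [1] := by decide +kernel

theorem lows5 : (List.finRange _).map (fun s => (step5.low Cfsg.Lie.chevE6 s).length) =
    [0] := by decide +kernel

theorem sub0 : ∀ r ∈ step1.prev, r ∈ step0.lev := by decide +kernel

theorem sub1 : ∀ r ∈ step2.prev, r ∈ step1.lev := by decide +kernel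

theorem sub2 : ∀ r ∈ step3.prev, r ∈ step2.lev := by decide +kernel

theorem sub3 : ∀ r ∈ step4.prev, r ∈ step3.lev := by decide +kernel

theorem sub4 : ∀ r ∈ step5.prev, r ∈ step4.lev := by decide +kernel

end CfsgLib.E6Deg
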